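import Mathlib.RingTheory.Ideal.Span
import Mathlib.Algebra.MvPolynomial.Basic
import Mathlib.Algebra.Ring.GeomSum
import Mathlib.RingTheory.Ideal.Operations
import Mathlib.RingTheory.Coprime.Lemmas
import Mathlib.Tactic.Ring
import Mathlib.Tactic.LinearCombination
import Mathlib.Tactic.Linarith

/-! Monomials in three variables modulo `X₀^(q-p) - X₁X₂`. -/

namespace GrothLib.InvHilb

variable {R : Type*} [CommRing R] (x y z : R) (p q : ℕ)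

theorem sub_mem_of_same (hpq : p ≤ q) {d0 d1 d2 e0 e1 e2 : ℕ}
    (hn : (e0 : ℤ) - (p : ℤ) * e1 + (q : ℤ) * e2 = (d0 : ℤ) - (p : ℤ) * d1 + (q : ℤ) * d2)
    (hc : (d1 : ℤ) - d2 = (e1 : ℤ) - e2) :
    x ^ d0 * y ^ d1 * z ^ d2 - x ^ e0 * y ^ e1 * z ^ e2 ∈ Ideal.span {x ^ (q - p) - y * z} := by
  wlog h : d2 ≤ e2 generalizing d0 d1 d2 e0 e1 e2 with H
  · have := H hn.symm hc.symm (le_of_not_ge h)
    have h2 := (Ideal.neg_mem_iff _).2 this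
    rwa [neg_sub] at h2
  obtain ⟨t, rfl⟩ := Nat.exists_eq_add_of_le h
  obtain rfl : e1 = d1 + t := by push_cast at hc; omega
  obtain rfl : d0 = e0 + (q - p) * t := by
    have : (d0 : ℤ) = (e0 : ℤ) + ((q - p : ℕ) : ℤ) * t := by
      rw [Nat.cast_sub hpq]; push_cast at hn ⊢; linear_combination -hn
    exact_mod_cast this
  rw [Ideal.mem_span_singleton, pow_add, pow_mul, pow_add, pow_add,
    show x ^ e0 * (x ^ (q - p)) ^ t * y ^ d1 * z ^ d2 - x ^ e0 * (y ^ d1 * y ^ t) * (z ^ d2 * z ^ t) =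
      x ^ e0 * y ^ d1 * z ^ d2 * ((x ^ (q - p)) ^ t - (y * z) ^ t) by ring]
  exact Dvd.dvd.mul_left (sub_dvd_pow_sub_pow _ _ t) _

theorem sub_mul_pow_mem (hpq : p ≤ q) (m : ℕ) {d0 d1 d2 e0 e1 e2 s : ℕ}
    (hn : (e0 : ℤ) - (p : ℤ) * e1 + (q : ℤ) * e2 = (d0 : ℤ) - (p : ℤ) * d1 + (q : ℤ) * d2)
    (hc : (d1 : ℤ) - d2 = (e1 : ℤ) - e2 + (m : ℤ) * s) :
    x ^ d0 * y ^ d1 * z ^ d2 - x ^ e0 * y ^ e1 * z ^ e2 * (x ^ (m * p) * y ^ m) ^ s ∈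
      Ideal.span {x ^ (q - p) - y * z} := by
  rw [mul_pow, ← pow_mul, ← pow_mul, show x ^ e0 * y ^ e1 * z ^ e2 * (x ^ (m * p * s) * y ^ (m * s)) =
    x ^ (e0 + m * p * s) * y ^ (e1 + m * s) * z ^ e2 by ring]
  refine sub_mem_of_same x y z p q hpq ?_ (by push_cast; linear_combination hc)
  push_cast
  linear_combination hn

theorem exists_exponent {m : ℕ} (hm : 0 < m) {c c' : ℤ} (hd : (m : ℤ) ∣ c - c') :
    (∃ s : ℕ, c = c' + (m : ℤ) * s) ∨ ∃ s : ℕ, c' = c + (m : ℤ) * s := by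
  obtain ⟨a, ha⟩ := hd
  rcases le_total 0 a with h | h
  · exact Or.inl ⟨a.toNat, by rw [Int.toNat_of_nonneg h]; linarith⟩
  · exact Or.inr ⟨(-a).toNat, by rw [Int.toNat_of_nonneg (by linarith)]; linarith⟩

end GrothLib.InvHilb
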